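import Mathlib.LinearAlgebra.Dimension.Constructions
import Mathlib.LinearAlgebra.FiniteDimensional.Lemmas
import Mathlib.Data.Set.Card
import Mathlib.Tactic.Abel

/-!
Commuting involutions of a vector space.
-/

universe u v

namespace Groth.Agent.BddFinX

theorem ncard_le_two_pow_of_involutions (K : Type u) [Field K] (h2 : (2 : K) ≠ 0) :
    ∀ (d : ℕ) (V : Type v) [AddCommGroup V] [Module K V] [FiniteDimensional K V],
      Module.finrank K V = d → ∀ S : Set (Module.End K V), S.Finite →
        (∀ s ∈ S, s * s = 1) → (∀ s ∈ S, ∀ t ∈ S, s * t = t * s) → S.ncard ≤ 2 ^ d := by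
  intro d
  induction d using Nat.strong_induction_on with
  | h d ih =>
    intro V _ _ _ hd S hfin hsq hcomm
    classical
    by_cases hall : ∀ s ∈ S, s = 1 ∨ s = -1
    · rcases Nat.eq_zero_or_pos d with rfl | hd0
      · haveI : Subsingleton V := Module.finrank_zero_iff.1 hd
        rw [pow_zero, Set.ncard_le_one hfin]
        exact fun a _ b _ => Subsingleton.elim a b
      · refine le_trans (Set.ncard_le_ncard (t := {1, -1}) hall (Set.toFinite _)) ?_
        exact ((Set.ncard_insert_le _ _).trans (by rw [Set.ncard_singleton])).trans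
          (Nat.le_self_pow hd0.ne' 2)
    push Not at hall
    obtain ⟨g, hg, hg1, hgm⟩ := hall
    let Vp : Submodule K V := LinearMap.ker (g - 1)
    let Vm : Submodule K V := LinearMap.ker (g + 1)
    have hgg : ∀ x, g (g x) = x := fun x => by rw [← Module.End.mul_apply, hsq g hg]; rfl
    have hdec : ∀ x : V, x = (2 : K)⁻¹ • (x + g x) + (2 : K)⁻¹ • (x - g x) := fun x => by
      rw [← smul_add, show x + g x + (x - g x) = (2 : K) • x by rw [two_smul]; abel, smul_smul,
        inv_mul_cancel₀ h2, one_smul]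
    have hp : ∀ x, (2 : K)⁻¹ • (x + g x) ∈ Vp := fun x => by
      refine Submodule.smul_mem _ _ (LinearMap.mem_ker.2 ?_)
      rw [LinearMap.sub_apply, Module.End.one_apply, map_add, hgg]
      abel
    have hm : ∀ x, (2 : K)⁻¹ • (x - g x) ∈ Vm := fun x => by
      refine Submodule.smul_mem _ _ (LinearMap.mem_ker.2 ?_)
      rw [LinearMap.add_apply, Module.End.one_apply, map_sub, hgg]
      abel
    have hdisj : Disjoint Vp Vm := by
      rw [Submodule.disjoint_def]
      intro x h1 h1'
      simp [Vp, sub_eq_zero] at h1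
      simp [Vm, h1, ← two_smul K] at h1'
      exact h1'.resolve_left h2
    have hsup : Vp ⊔ Vm = ⊤ := eq_top_iff.2 fun x _ =>
      hdec x ▸ Submodule.add_mem_sup (hp x) (hm x)
    have hfr := Submodule.finrank_sup_add_finrank_inf_eq Vp Vm
    rw [hsup, hdisj.eq_bot, finrank_top, finrank_bot, hd, add_zero] at hfr
    have hpne : Vp ≠ ⊥ := fun h => hgm (LinearMap.ext fun x => by
      have := hp x
      rw [h, Submodule.mem_bot, smul_eq_zero, add_eq_zero_iff_neg_eq] at this
      exact (this.resolve_left (inv_ne_zero h2)).symm.trans (by simp))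
    have hmne : Vm ≠ ⊥ := fun h => hg1 (LinearMap.ext fun x => by
      have := hm x
      rw [h, Submodule.mem_bot, smul_eq_zero, sub_eq_zero] at this
      exact (this.resolve_left (inv_ne_zero h2)).symm)
    have hp0 : Module.finrank K Vp ≠ 0 := fun h => hpne (Submodule.finrank_eq_zero.1 h)
    have hm0 : Module.finrank K Vm ≠ 0 := fun h => hmne (Submodule.finrank_eq_zero.1 h)
    have hsp : ∀ s ∈ S, ∀ x ∈ Vp, s x ∈ Vp := fun s hs x hx => by
      simp [Vp, sub_eq_zero] at hx ⊢
      rw [← Module.End.mul_apply, hcomm g hg s hs, Module.End.mul_apply, hx]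
    have hsm : ∀ s ∈ S, ∀ x ∈ Vm, s x ∈ Vm := fun s hs x hx => by
      simp [Vm, add_eq_zero_iff_eq_neg] at hx ⊢
      rw [← Module.End.mul_apply, hcomm g hg s hs, Module.End.mul_apply, hx, map_neg]
    let rp : Module.End K V → Module.End K Vp := fun s =>
      if hs : s ∈ S then s.restrict (hsp s hs) else 0
    let rm : Module.End K V → Module.End K Vm := fun s =>
      if hs : s ∈ S then s.restrict (hsm s hs) else 0
    have hrp : ∀ s ∈ S, ∀ x : Vp, (rp s x : V) = s x := fun s hs x => by simp [rp, hs]
    have hrm : ∀ s ∈ S, ∀ x : Vm, (rm s x : V) = s x := fun s hs x => by simp [rm, hs]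
    have hbp : (rp '' S).ncard ≤ 2 ^ Module.finrank K Vp := by
      refine ih _ (by omega) Vp rfl _ (hfin.image _) ?_ ?_
      · rintro _ ⟨s, hs, rfl⟩
        refine LinearMap.ext fun x => Subtype.ext ?_
        rw [Module.End.mul_apply, hrp s hs, hrp s hs, ← Module.End.mul_apply, hsq s hs]
        rfl
      · rintro _ ⟨s, hs, rfl⟩ _ ⟨t, ht, rfl⟩
        refine LinearMap.ext fun x => Subtype.ext ?_
        rw [Module.End.mul_apply, Module.End.mul_apply, hrp s hs, hrp t ht, hrp t ht, hrp s hs,
          ← Module.End.mul_apply, hcomm s hs t ht]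
        rfl
    have hbm : (rm '' S).ncard ≤ 2 ^ Module.finrank K Vm := by
      refine ih _ (by omega) Vm rfl _ (hfin.image _) ?_ ?_
      · rintro _ ⟨s, hs, rfl⟩
        refine LinearMap.ext fun x => Subtype.ext ?_
        rw [Module.End.mul_apply, hrm s hs, hrm s hs, ← Module.End.mul_apply, hsq s hs]
        rfl
      · rintro _ ⟨s, hs, rfl⟩ _ ⟨t, ht, rfl⟩
        refine LinearMap.ext fun x => Subtype.ext ?_
        rw [Module.End.mul_apply, Module.End.mul_apply, hrm s hs, hrm t ht, hrm t ht, hrm s hs,
          ← Module.End.mul_apply, hcomm s hs t ht]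
        rfl
    calc S.ncard ≤ ((rp '' S) ×ˢ (rm '' S)).ncard := by
          refine Set.ncard_le_ncard_of_injOn (fun s => (rp s, rm s))
            (fun s hs => ⟨⟨s, hs, rfl⟩, ⟨s, hs, rfl⟩⟩) ?_ ((hfin.image _).prod (hfin.image _))
          intro s hs t ht hst
          simp only [Prod.mk.injEq] at hst
          refine LinearMap.ext fun x => ?_
          have e1 := hrp s hs ⟨_, hp x⟩
          rw [hst.1, hrp t ht] at e1
          have e2 := hrm s hs ⟨_, hm x⟩
          rw [hst.2, hrm t ht] at e2
          rw [hdec x, map_add, map_add]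
          exact congrArg₂ (· + ·) e1.symm e2.symm
      _ = (rp '' S).ncard * (rm '' S).ncard := Set.ncard_prod
      _ ≤ 2 ^ Module.finrank K Vp * 2 ^ Module.finrank K Vm := Nat.mul_le_mul hbp hbm
      _ = 2 ^ d := by rw [← pow_add, ← hfr]

end Groth.Agent.BddFinX
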